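import Mathlib.AlgebraicGeometry.Noetherian
import Mathlib.AlgebraicGeometry.Morphisms.UniversallyOpen
import Mathlib.AlgebraicGeometry.Morphisms.UnderlyingMap
import Mathlib.AlgebraicGeometry.Morphisms.ClosedImmersion
import Mathlib.AlgebraicGeometry.ResidueField

/-! Topological facts about schemes used for descent. -/

set_option autoImplicit false
universe u

open CategoryTheory CategoryTheory.Limits AlgebraicGeometry

namespace Groth.Agent.Desc19

theorem isOpen_of_isClosed_stableUnderGen {Y : Scheme.{u}} [IsLocallyNoetherian Y]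
    (W : Set Y) (hW : IsClosed W) (hgen : StableUnderGeneralization W) : IsOpen W := by
  refine isOpen_iff_forall_mem_open.mpr fun x hx => ?_
  obtain ⟨U, hU, hxU⟩ : ∃ U : Y.Opens, IsAffineOpen U ∧ x ∈ U := by
    obtain ⟨U, hU, hxU, -⟩ := exists_isAffineOpen_mem_and_subset (x := x) (U := ⊤) trivial
    exact ⟨U, hU, hxU⟩
  have : IsNoetherianRing Γ(Y, U) := IsLocallyNoetherian.component_noetherian ⟨U, hU⟩
  have : TopologicalSpace.NoetherianSpace U :=
    (noetherianSpace_of_isAffineOpen U hU)
  have hfin := TopologicalSpace.NoetherianSpace.finite_irreducibleComponents (α := U)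
  let S := {Z ∈ irreducibleComponents U | ¬ Z ⊆ Subtype.val ⁻¹' W}
  have hS : IsClosed (⋃₀ S) := by
    rw [Set.sUnion_eq_biUnion]
    exact (hfin.subset fun Z hZ => hZ.1).isClosed_biUnion fun Z hZ => isClosed_of_mem_irreducibleComponents Z hZ.1
  refine ⟨Subtype.val '' (⋃₀ S)ᶜ, ?_, U.2.isOpenMap_subtype_val _ hS.isOpen_compl, ⟨⟨x, hxU⟩, ?_, rfl⟩⟩
  · rintro _ ⟨z, hz, rfl⟩
    by_contra hzW
    refine hz ⟨irreducibleComponent z, ⟨irreducibleComponent_mem_irreducibleComponents z, fun hsub => hzW (hsub mem_irreducibleComponent)⟩, mem_irreducibleComponent⟩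
  · rintro ⟨Z, ⟨hZ, hZW⟩, hxZ⟩
    have : QuasiSober U := inferInstanceAs (QuasiSober (U : Scheme.{u}))
    have hg := hZ.1.isGenericPoint_genericPoint (isClosed_of_mem_irreducibleComponents Z hZ)
    set ξ : U := hZ.1.genericPoint
    have hξ : Subtype.val ξ ∈ W := hgen (Topology.IsInducing.subtypeVal.specializes_iff.mpr (hg.specializes hxZ)) hx
    exact hZW fun w hw => (Topology.IsInducing.subtypeVal.specializes_iff.mpr (hg.specializes hw)).mem_closed hW hξ

theorem image_connectedComponent_eq {X Y : Scheme.{u}} [IsLocallyNoetherian Y]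
    (f : X ⟶ Y) (hc : IsClosedMap f.base) (hg : GeneralizingMap f.base) (x : X) :
    f.base '' connectedComponent x = connectedComponent (f.base x) := by
  refine subset_antisymm ((isConnected_connectedComponent.image _ f.continuous.continuousOn).subset_connectedComponent ⟨x, mem_connectedComponent, rfl⟩) ?_
  have hcl := hc _ (isClosed_connectedComponent (x := x))
  have hsg : StableUnderGeneralization (connectedComponent x) := by
    intro a b hab ha
    rw [connectedComponent_eq ha]
    exact isConnected_singleton.closure.subset_connectedComponent hab.mem_closure (subset_closure rfl)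
  exact (IsClopen.connectedComponent_subset ⟨hcl, isOpen_of_isClosed_stableUnderGen _ hcl (hsg.image hg)⟩ ⟨x, mem_connectedComponent, rfl⟩)

theorem irreducibleSpace_of_genFibre {X Y : Scheme.{u}} (f : X ⟶ Y)
    (hf : GeneralizingMap f.base) [IrreducibleSpace Y]
    (h : IsIrreducible (f.base ⁻¹' {genericPoint Y})) : IrreducibleSpace X := by
  have : closure (f.base ⁻¹' {genericPoint Y}) = Set.univ := by
    refine Set.eq_univ_of_forall fun x => ?_
    obtain ⟨z, hz, hzy⟩ := hf (a := x) (b := genericPoint Y) (genericPoint_specializes _)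
    exact hz.mem_closed isClosed_closure (subset_closure hzy)
  have h2 := h.closure
  rw [this] at h2
  exact irreducibleSpace_def .. |>.mpr h2

theorem exists_genericPoint_component {X Y : Scheme.{u}} (f : X ⟶ Y)
    (hf : GeneralizingMap ⇑f) (T : Set ↥X) (hT : T ∈ irreducibleComponents ↥X) :
    ∃ ξ : X, T = closure {ξ} ∧ closure {f ξ} ∈ irreducibleComponents Y := by
  have hcl := isClosed_of_mem_irreducibleComponents T hT
  obtain ⟨ξ, hξ⟩ := QuasiSober.sober hT.1 hcl
  refine ⟨ξ, hξ.symm, isIrreducible_singleton.closure, fun s hs hle => ?_⟩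
  obtain ⟨y, hy⟩ := QuasiSober.sober hs.closure isClosed_closure
  have hyf : y ⤳ f ξ := hy.specializes (subset_closure (hle (subset_closure rfl)))
  obtain ⟨z, hz, rfl⟩ := hf hyf
  have hzT : closure {z} ⊆ T := hT.2 isIrreducible_singleton.closure (by
    rw [← hξ]; exact closure_minimal (by simpa using hz.mem_closure) isClosed_closure)
  have hzξ : ξ ⤳ z := hξ.specializes (hzT (subset_closure rfl))
  intro w hw
  have : f z ⤳ w := hy.specializes (subset_closure hw)
  exact ((hzξ.map f.continuous).trans this).mem_closure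

theorem closure_image_component_mem {X Y : Scheme.{u}} (f : X ⟶ Y)
    (hf : GeneralizingMap ⇑f) (T : Set ↥X) (hT : T ∈ irreducibleComponents ↥X) :
    closure (⇑f '' T) ∈ irreducibleComponents ↥Y := by
  obtain ⟨ξ, rfl, h⟩ := exists_genericPoint_component f hf T hT
  rw [closure_image_closure f.continuous, Set.image_singleton]
  exact h

theorem components_locallyFinite {X Y : Scheme.{u}} (f : X ⟶ Y)
    (hY : ∀ y : Y, ∃ U : Set ↥Y, IsOpen U ∧ y ∈ U ∧ {Z ∈ irreducibleComponents ↥Y | (Z ∩ U).Nonempty}.Finite)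
    (hf : GeneralizingMap ⇑f) (hfin : ∀ y : Y, (⇑f ⁻¹' {y}).Finite) (x : X) :
    ∃ U : Set ↥X, IsOpen U ∧ x ∈ U ∧ {T ∈ irreducibleComponents ↥X | (T ∩ U).Nonempty}.Finite := by
  obtain ⟨U, hU, hxU, hF⟩ := hY (f x)
  refine ⟨f ⁻¹' U, hU.preimage f.continuous, hxU, ?_⟩
  let G : Set Y := {η | closure {η} ∈ {Z ∈ irreducibleComponents ↥Y | (Z ∩ U).Nonempty}}
  have hG : G.Finite := hF.preimage (fun a _ b _ h => (IsGenericPoint.eq (show IsGenericPoint a _ from h) rfl))
  refine ((hG.preimage' (fun b _ => hfin b)).image fun ξ => closure {ξ}).subset ?_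
  rintro T ⟨hT, w, hwT, hwU⟩
  obtain ⟨ξ, rfl, h⟩ := exists_genericPoint_component f hf T hT
  exact ⟨ξ, ⟨h, f w, ((specializes_iff_mem_closure.mpr hwT).map f.continuous).mem_closure, hwU⟩, rfl⟩

theorem universallyOpen_of_comp_surjective {X Y Z : Scheme.{u}} (f : X ⟶ Y) (g : Y ⟶ Z) [Surjective f]
    [UniversallyOpen (f ≫ g)] : UniversallyOpen g := by
  constructor
  intro X' Y' i₁ i₂ f' H U hU
  have h := UniversallyOpen.universally_isOpenMap (f := f ≫ g) _ _ _
    ((IsPullback.of_hasPullback i₁ f).paste_horiz H)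
  have hs : Function.Surjective (pullback.fst i₁ f) := (inferInstance : Surjective (pullback.fst i₁ f)).1
  have := h _ (hU.preimage (pullback.fst i₁ f).continuous)
  rwa [Scheme.Hom.comp_base, TopCat.coe_comp, Set.image_comp, hs.image_preimage] at this

theorem universallyOpen_of_closedImm_surjective {X Y : Scheme.{u}} (f : X ⟶ Y) [IsClosedImmersion f] [Surjective f] :
    UniversallyOpen f := by
  constructor
  intro X' Y' i₁ i₂ f' H
  have h1 : IsClosedImmersion f' := MorphismProperty.of_isPullback H.flip ‹_›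
  have h2 : Surjective f' := MorphismProperty.of_isPullback H.flip ‹_›
  exact (IsHomeomorph.mk f'.continuous (f'.isClosedEmbedding.toIsEmbedding.toHomeomorphOfSurjective f'.surjective).isOpenMap ⟨f'.isClosedEmbedding.injective, f'.surjective⟩).isOpenMap

theorem universallyOpen_of_subsingleton {X Y : Scheme.{u}} (f : X ⟶ Y) [Subsingleton Y] : UniversallyOpen f := by
  cases isEmpty_or_nonempty Y with
  | inl h => 
    constructor
    intro X' Y' i₁ i₂ f' H U hU
    have : IsEmpty Y' := Function.isEmpty i₂
    simp [Set.eq_empty_of_isEmpty]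
  | inr h =>
    obtain ⟨y⟩ := h
    let q := Y.fromSpecResidueField y
    have hs : Surjective q := ⟨fun z => ⟨IsLocalRing.closedPoint _, Subsingleton.elim _ _⟩⟩
    have : IsClosedImmersion q := .of_isPreimmersion q (by rw [hs.1.range_eq]; exact isClosed_univ)
    have := universallyOpen_of_closedImm_surjective q
    have : UniversallyOpen (pullback.fst f q ≫ f) := by rw [pullback.condition]; infer_instance
    exact universallyOpen_of_comp_surjective (pullback.fst f q) f

theorem universallyOpen_of_discrete {X Y : Scheme.{u}} (f : X ⟶ Y) [DiscreteTopology Y] :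
    UniversallyOpen f := by
  refine IsZariskiLocalAtTarget.of_iSup_eq_top (fun y : Y => (⟨{y}, isOpen_discrete _⟩ : Y.Opens)) ?_ fun y => ?_
  · ext z; simp
  · have : Subsingleton (⟨{y}, isOpen_discrete _⟩ : Y.Opens) := ⟨fun a b => Subtype.ext ((a.2 : a.1 = y).trans (b.2 : b.1 = y).symm)⟩
    exact universallyOpen_of_subsingleton _

end Groth.Agent.Desc19
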