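import Mathlib.CategoryTheory.FiberedCategory.Fibered
import Mathlib.CategoryTheory.Limits.Shapes.Pullback.HasPullback
import Mathlib.CategoryTheory.Limits.Shapes.Pullback.IsPullback.Defs
import Mathlib.CategoryTheory.Comma.Over.Basic

/-! Strongly cartesian morphisms, phrased through `p.map`. -/

set_option autoImplicit false
universe v₁ u₁ v₂ u₂ v₃ u₃

open CategoryTheory CategoryTheory.Limits

namespace Groth.Agent.Desc19

variable {𝒳 : Type u₁} [Category.{v₁} 𝒳] {C : Type u₂} [Category.{v₂} C] (p : 𝒳 ⥤ C)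

theorem sc_mk {x y : 𝒳} (φ : x ⟶ y)
    (h : ∀ ⦃z : 𝒳⦄ (ψ : z ⟶ y) (g : p.obj z ⟶ p.obj x), g ≫ p.map φ = p.map ψ →
      ∃! χ : z ⟶ x, p.map χ = g ∧ χ ≫ φ = ψ) :
    p.IsStronglyCartesian (p.map φ) φ where
  universal_property' := by
    intro z g ψ hψ
    have h2 : g ≫ p.map φ = p.map ψ := by
      simpa using (IsHomLift.fac' p (g ≫ p.map φ) ψ).symm
    obtain ⟨χ, ⟨h3, h4⟩, hu⟩ := h ψ g h2
    refine ⟨χ, ⟨by rw [← h3]; infer_instance, h4⟩, ?_⟩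
    rintro χ' ⟨hl, h5⟩
    exact hu χ' ⟨by simpa using IsHomLift.fac' p g χ', h5⟩

theorem sc_spec {x y : 𝒳} (φ : x ⟶ y) [p.IsStronglyCartesian (p.map φ) φ]
    {z : 𝒳} (ψ : z ⟶ y) (g : p.obj z ⟶ p.obj x) (h : g ≫ p.map φ = p.map ψ) :
    ∃! χ : z ⟶ x, p.map χ = g ∧ χ ≫ φ = ψ := by
  obtain ⟨χ, ⟨hl, h2⟩, hu⟩ :=
    Functor.IsStronglyCartesian.universal_property p (p.map φ) φ g (p.map ψ) h.symm ψ
  refine ⟨χ, ⟨by simpa using IsHomLift.fac' p g χ, h2⟩, ?_⟩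
  rintro χ' ⟨h3, h4⟩
  exact hu χ' ⟨by rw [← h3]; infer_instance, h4⟩

theorem sc_ext {x y : 𝒳} (φ : x ⟶ y) [p.IsStronglyCartesian (p.map φ) φ] {z : 𝒳}
    {χ χ' : z ⟶ x} (h1 : p.map χ = p.map χ') (h2 : χ ≫ φ = χ' ≫ φ) : χ = χ' := by
  obtain ⟨c, _, hu⟩ := sc_spec p φ (χ ≫ φ) (p.map χ) (p.map_comp _ _).symm
  exact (hu χ ⟨rfl, rfl⟩).trans (hu χ' ⟨h1.symm, h2.symm⟩).symm

theorem sc_map_of_sc {R S : C} {x y : 𝒳} (f : R ⟶ S) (φ : x ⟶ y) [p.IsStronglyCartesian f φ] :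
    p.IsStronglyCartesian (p.map φ) φ := by
  obtain rfl := IsHomLift.domain_eq p f φ
  obtain rfl := IsHomLift.codomain_eq p f φ
  obtain rfl := (IsHomLift.eq_of_isHomLift p f φ)
  infer_instance

theorem isFibered_mk
    (h : ∀ (a : 𝒳) (R : C) (f : R ⟶ p.obj a), ∃ (b : 𝒳) (φ : b ⟶ a),
      p.IsHomLift f φ ∧ p.IsStronglyCartesian (p.map φ) φ) : p.IsFibered := by
  refine Functor.IsFibered.of_exists_isStronglyCartesian fun a R f => ?_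
  obtain ⟨b, φ, h1, h2⟩ := h a R f
  refine ⟨b, φ, ?_⟩
  obtain rfl := IsHomLift.domain_eq p f φ
  obtain rfl := (IsHomLift.eq_of_isHomLift p f φ)
  exact h2

theorem exists_sc_lift [p.IsFibered] (a : 𝒳) (R : C) (f : R ⟶ p.obj a) :
    ∃ (b : 𝒳) (φ : b ⟶ a), p.IsHomLift f φ ∧ p.IsStronglyCartesian (p.map φ) φ := by
  obtain ⟨b, φ, h⟩ := IsPreFibered.exists_isCartesian p rfl f
  exact ⟨b, φ, inferInstance, sc_map_of_sc p f φ⟩

variable {D : Type u₃} [Category.{v₃} D]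

theorem sc_comp (G : C ⥤ D) {x y : 𝒳} (φ : x ⟶ y) [p.IsStronglyCartesian (p.map φ) φ]
    [G.IsStronglyCartesian (G.map (p.map φ)) (p.map φ)] :
    (p ⋙ G).IsStronglyCartesian ((p ⋙ G).map φ) φ := by
  refine sc_mk (p ⋙ G) φ fun z ψ g hg => ?_
  obtain ⟨g', ⟨hg1, hg2⟩, hgu⟩ := sc_spec G (p.map φ) (p.map ψ) g hg
  obtain ⟨χ, ⟨h1, h2⟩, hu⟩ := sc_spec p φ ψ g' hg2
  refine ⟨χ, ⟨by simp [h1, hg1], h2⟩, ?_⟩
  rintro χ' ⟨h3, h4⟩
  exact hu χ' ⟨hgu _ ⟨h3, by rw [← p.map_comp, h4]⟩, h4⟩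

theorem isFibered_comp_functor (G : C ⥤ D) [p.IsFibered] [G.IsFibered] : (p ⋙ G).IsFibered := by
  refine isFibered_mk _ fun a R f => ?_
  obtain ⟨b', φ', h1, h2⟩ := exists_sc_lift G (p.obj a) R f
  obtain ⟨b, φ, h3, h4⟩ := exists_sc_lift p a b' φ'
  obtain rfl := IsHomLift.domain_eq p φ' φ
  obtain rfl := (IsHomLift.eq_of_isHomLift p φ' φ)
  refine ⟨b, φ, ?_, sc_comp p G φ⟩
  have hd := IsHomLift.domain_eq G f (p.map φ)
  exact IsHomLift.of_fac _ f φ hd rfl (IsHomLift.fac G f (p.map φ))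

theorem sc_of_comp_faithful (G : C ⥤ D) [G.Faithful] {x y : 𝒳} (φ : x ⟶ y)
    [(p ⋙ G).IsStronglyCartesian ((p ⋙ G).map φ) φ] : p.IsStronglyCartesian (p.map φ) φ := by
  refine sc_mk p φ fun z ψ g hg => ?_
  obtain ⟨χ, ⟨h1, h2⟩, hu⟩ := sc_spec (p ⋙ G) φ ψ (G.map g) (by simp [← G.map_comp, hg])
  exact ⟨χ, ⟨G.map_injective h1, h2⟩, fun χ' ⟨h3, h4⟩ => hu χ' ⟨by simp [h3], h4⟩⟩

theorem sc_of_cart_of_cofibered [p.op.IsFibered] {R S : C} {a b : 𝒳} (f : R ⟶ S) (φ : a ⟶ b) [p.IsCartesian f φ] :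
    p.IsStronglyCartesian f φ := by
  obtain rfl := IsHomLift.domain_eq p f φ
  obtain rfl := IsHomLift.codomain_eq p f φ
  obtain rfl := (IsHomLift.eq_of_isHomLift p f φ)
  refine sc_mk p φ fun c ψ g hg => ?_
  obtain ⟨c', ω, h1, h2⟩ := exists_sc_lift p.op (Opposite.op c) _ g.op
  have e : p.obj c'.unop = p.obj a := congrArg Opposite.unop (IsHomLift.domain_eq p.op g.op ω)
  have hω : p.map ω.unop = g ≫ eqToHom e.symm := by
    have := congrArg Quiver.Hom.unop (IsHomLift.fac' p.op g.op ω)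
    simpa using this
  obtain ⟨τ, ⟨hτ1, hτ2⟩, hτu⟩ := sc_spec p.op ω ψ.op (eqToHom e ≫ p.map φ).op (by
    apply Quiver.Hom.unop_inj
    simp [hω, hg])
  have hτ : p.IsHomLift (p.map φ) τ.unop := by
    refine IsHomLift.of_fac' p _ _ e rfl ?_
    simpa using congrArg Quiver.Hom.unop hτ1
  obtain ⟨σ, ⟨hσ1, hσ2⟩, hσu⟩ := Functor.IsCartesian.universal_property (p := p) (f := p.map φ) (φ := φ) τ.unop
  have hσ : p.map σ = eqToHom e := by simpa using IsHomLift.fac' p (𝟙 (p.obj a)) σ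
  refine ⟨ω.unop ≫ σ, ⟨by simp [hω, hσ], ?_⟩, ?_⟩
  · rw [Category.assoc, hσ2]
    exact congrArg Quiver.Hom.unop hτ2
  rintro π ⟨hπ1, hπ2⟩
  obtain ⟨ρ, ⟨hρ1, hρ2⟩, -⟩ := sc_spec p.op ω π.op (eqToHom e).op (by
    apply Quiver.Hom.unop_inj
    simp [hω, hπ1])
  have hρ1' : p.map ρ.unop = eqToHom e := by simpa using congrArg Quiver.Hom.unop hρ1
  have hρ2' : ω.unop ≫ ρ.unop = π := congrArg Quiver.Hom.unop hρ2
  rw [← hρ2']
  congr 1
  refine hσu _ ⟨IsHomLift.of_fac' p _ _ e rfl (by simp [hρ1']), ?_⟩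
  have : (ρ.unop ≫ φ).op = τ := hτu _ ⟨?_, ?_⟩
  · rw [← this]; rfl
  · apply Quiver.Hom.unop_inj; simp [hρ1']
  · apply Quiver.Hom.unop_inj; simp [← hπ2, ← hρ2']

theorem opop_fibered [p.IsFibered] : p.op.op.IsFibered := by
  refine isFibered_mk _ fun a R f => ?_
  obtain ⟨b, φ, h1, h2⟩ := exists_sc_lift p a.unop.unop R.unop.unop f.unop.unop
  refine ⟨Opposite.op (Opposite.op b), φ.op.op, ?_, ?_⟩
  · obtain rfl : R = Opposite.op (Opposite.op (p.obj b)) := by rw [IsHomLift.domain_eq p f.unop.unop φ]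
    obtain rfl : f = (p.map φ).op.op := by
      have := IsHomLift.eq_of_isHomLift p f.unop.unop φ
      apply Quiver.Hom.unop_inj; apply Quiver.Hom.unop_inj; exact this
    exact Functor.IsHomLift.map (p := p.op.op) φ.op.op
  · refine sc_mk _ _ fun z ψ g hg => ?_
    obtain ⟨χ, ⟨hc1, hc2⟩, hu⟩ := sc_spec p φ ψ.unop.unop g.unop.unop (congrArg (fun x => x.unop.unop) hg)
    refine ⟨χ.op.op, ⟨by simp [hc1], ?_⟩, fun χ' hχ => ?_⟩
    · apply Quiver.Hom.unop_inj; apply Quiver.Hom.unop_inj; exact hc2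
    · have := hu χ'.unop.unop ⟨congrArg (fun x => x.unop.unop) hχ.1, congrArg (fun x => x.unop.unop) hχ.2⟩
      apply Quiver.Hom.unop_inj; apply Quiver.Hom.unop_inj; exact this

end Groth.Agent.Desc19
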