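import Mathlib.CategoryTheory.EffectiveEpi.Comp
import Mathlib.CategoryTheory.MorphismProperty.Limits
import Mathlib.CategoryTheory.Limits.Shapes.Pullback.HasPullback
import Mathlib.CategoryTheory.Limits.Shapes.Pullback.IsPullback.BicartesianSq
import Mathlib.CategoryTheory.Limits.Shapes.BinaryProducts
import Mathlib.CategoryTheory.Comma.Over.Pullback
import Mathlib.CategoryTheory.EquivalenceRelation

/-! Universal effective epimorphisms. -/

set_option autoImplicit false
universe v u

open CategoryTheory CategoryTheory.Limits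

namespace Groth.Agent.Desc19

variable {C : Type u} [Category.{v} C]

/-- All base changes are effective epimorphisms. -/
abbrev UEE : MorphismProperty C :=
  MorphismProperty.universally (fun (A B : C) (p : A ⟶ B) => EffectiveEpi p)

/-- Build an effective epi from existence and uniqueness of descents. -/
theorem effectiveEpi_mk {X Y : C} (f : Y ⟶ X)
    (h : ∀ {W : C} (e : Y ⟶ W),
      (∀ {Z : C} (g₁ g₂ : Z ⟶ Y), g₁ ≫ f = g₂ ≫ f → g₁ ≫ e = g₂ ≫ e) → ∃! d : X ⟶ W, f ≫ d = e) :
    EffectiveEpi f :=
  ⟨⟨{ desc := fun e he => (h e he).exists.choose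
      fac := fun e he => (h e he).exists.choose_spec
      uniq := fun e he m hm => (h e he).unique hm (h e he).exists.choose_spec }⟩⟩

variable [HasPullbacks C]

/-- A universal effective epi is in particular a universal epi. -/
theorem uee_epi {X Y : C} {f : X ⟶ Y} (hf : UEE f) :
    (MorphismProperty.epimorphisms C).universally f := fun _ _ i₁ i₂ f' h =>
  have : EffectiveEpi f' := hf i₁ i₂ f' h
  (inferInstance : Epi f')

theorem uee_of_eff {X Y : C} {f : X ⟶ Y} (hf : UEE f) : EffectiveEpi f :=
  MorphismProperty.universally_le _ f hf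

theorem effectiveEpi_comp_of_universally_epi {U T S : C} (v : U ⟶ T) (u : T ⟶ S)
    [EffectiveEpi u] [EffectiveEpi v]
    (hv : (MorphismProperty.epimorphisms C).universally v) : EffectiveEpi (v ≫ u) := by
  refine effectiveEpi_mk _ fun {W} e he => ?_
  let e' := EffectiveEpi.desc v e fun g₁ g₂ h => he g₁ g₂ (by rw [← Category.assoc, h, Category.assoc])
  have he' : v ≫ e' = e := EffectiveEpi.fac v e _
  refine ⟨EffectiveEpi.desc u e' fun {Z} g₁ g₂ h => ?_, ?_, fun m hm => ?_⟩
  · have : Epi (pullback.snd v g₁) := hv _ _ _ (IsPullback.of_hasPullback v g₁).flip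
    have : Epi (pullback.snd v (pullback.snd v g₁ ≫ g₂)) := hv _ _ _ (IsPullback.of_hasPullback _ _).flip
    rw [← cancel_epi (pullback.snd v g₁), ← cancel_epi (pullback.snd v (pullback.snd v g₁ ≫ g₂))]
    calc pullback.snd v (pullback.snd v g₁ ≫ g₂) ≫ pullback.snd v g₁ ≫ g₁ ≫ e'
        = (pullback.snd v (pullback.snd v g₁ ≫ g₂) ≫ pullback.fst v g₁) ≫ e := by
          rw [← he']; simp [pullback.condition_assoc]
      _ = pullback.fst v (pullback.snd v g₁ ≫ g₂) ≫ e := by
          apply he
          simp only [Category.assoc, pullback.condition_assoc, h]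
      _ = _ := by rw [← he']; simp [pullback.condition_assoc]
  · show (v ≫ u) ≫ _ = e
    rw [Category.assoc, EffectiveEpi.fac, he']
  · rw [← cancel_epi u, ← cancel_epi v, EffectiveEpi.fac, he', ← Category.assoc, hm]

theorem uee_comp {U T S : C} {v : U ⟶ T} {u : T ⟶ S} (hu : UEE u) (hv : UEE v) : UEE (v ≫ u) := by
  intro X' Y' i₁ i₂ f' h
  have hb : IsPullback (pullback.snd u i₂) (pullback.fst u i₂) i₂ u := (IsPullback.of_hasPullback u i₂).flip
  let v' := hb.lift f' (i₁ ≫ v) (by rw [h.w, Category.assoc])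
  have hv' : v' ≫ pullback.snd u i₂ = f' := hb.lift_fst ..
  have ht : IsPullback v' i₁ (pullback.fst u i₂) v :=
    IsPullback.of_right (by rw [hv']; exact h) (hb.lift_snd ..) hb
  have h1 : EffectiveEpi v' := hv _ _ _ ht
  have h2 : EffectiveEpi (pullback.snd u i₂) := hu _ _ _ hb
  rw [← hv']
  refine effectiveEpi_comp_of_universally_epi _ _ fun _ _ j₁ j₂ g hg => ?_
  exact uee_epi hv _ _ g (hg.paste_vert ht)

theorem effectiveEpi_of_comp {U T S : C} (v : U ⟶ T) (u : T ⟶ S) (h : UEE (v ≫ u)) :
    EffectiveEpi u := by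
  have hvu : EffectiveEpi (v ≫ u) := uee_of_eff h
  refine effectiveEpi_mk _ fun {W} e he => ?_
  refine ⟨EffectiveEpi.desc (v ≫ u) (v ≫ e) fun g₁ g₂ hg => ?_, ?_, fun m hm => ?_⟩
  · simp only [← Category.assoc] at hg ⊢
    exact he _ _ hg
  · have : Epi (pullback.snd (v ≫ u) u) := uee_epi h _ _ _ (IsPullback.of_hasPullback _ _).flip
    show u ≫ _ = e
    rw [← cancel_epi (pullback.snd (v ≫ u) u), ← pullback.condition_assoc, EffectiveEpi.fac,
      ← Category.assoc]
    exact he _ _ (by rw [Category.assoc, pullback.condition])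
  · rw [← cancel_epi (v ≫ u), EffectiveEpi.fac, Category.assoc, hm]

theorem uee_of_comp {U T S : C} {v : U ⟶ T} {u : T ⟶ S} (h : UEE (v ≫ u)) : UEE u := by
  intro X' Y' i₁ i₂ f' hsq
  refine effectiveEpi_of_comp (pullback.fst i₁ v) f' ?_
  exact MorphismProperty.of_isPullback ((IsPullback.of_hasPullback i₁ v).paste_horiz hsq).flip h

theorem uee_iff_baseChange {S' S T : C} (g : S' ⟶ S) (hg : UEE g) (u : T ⟶ S) :
    UEE u ↔ UEE (pullback.snd u g) := by
  refine ⟨fun h => MorphismProperty.of_isPullback (IsPullback.of_hasPullback u g) h, fun h => ?_⟩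
  refine uee_of_comp (v := pullback.fst u g) ?_
  rw [pullback.condition]
  exact uee_comp hg h

theorem mono_over_iff_pullback {S' S : C} {f : S' ⟶ S} (hf : UEE f) {X Y : Over S} (g : X ⟶ Y) :
    Mono g ↔ Mono ((Over.pullback f).map g) := by
  constructor
  · intro
    have : (Over.pullback f).IsRightAdjoint := ⟨_, ⟨Over.mapPullbackAdj f⟩⟩
    infer_instance
  · intro hm
    refine ⟨fun {Z} a b hab => ?_⟩
    have h : (Over.pullback f).map a = (Over.pullback f).map b := by
      rw [← cancel_mono ((Over.pullback f).map g), ← Functor.map_comp, ← Functor.map_comp, hab]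
    have : Epi (pullback.fst Z.hom f) := uee_epi hf _ _ _ (IsPullback.of_hasPullback _ _)
    apply Over.OverMorphism.ext
    rw [← cancel_epi (pullback.fst Z.hom f)]
    exact (pullback.lift_fst (f := X.hom) (g := f) _ _ _).symm.trans ((congrArg (fun k => k.left ≫ pullback.fst X.hom f) h).trans (pullback.lift_fst (f := X.hom) (g := f) _ _ _))

theorem isIso_over_iff_pullback {S' S : C} {f : S' ⟶ S} (hf : UEE f) {X Y : Over S} (g : X ⟶ Y) :
    IsIso g ↔ IsIso ((Over.pullback f).map g) := by
  refine ⟨fun _ => inferInstance, fun hi => ?_⟩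
  have : Mono g := (mono_over_iff_pullback hf g).mpr inferInstance
  have : Mono g.left := Over.mono_left_of_mono g
  let g' := (Over.pullback f).map g
  have hg' : g'.left ≫ pullback.fst Y.hom f = pullback.fst X.hom f ≫ g.left := pullback.lift_fst _ _ _
  let r := (inv g').left ≫ pullback.fst X.hom f
  have hr : r ≫ g.left = pullback.fst Y.hom f := by
    rw [Category.assoc, ← hg', ← Category.assoc, ← Over.comp_left, IsIso.inv_hom_id]
    simp
  have : EffectiveEpi (pullback.fst Y.hom f) := hf _ _ _ (IsPullback.of_hasPullback _ _)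
  let s := EffectiveEpi.desc (pullback.fst Y.hom f) r fun a b h => by
    rw [← cancel_mono g.left]
    exact (Category.assoc _ _ _).trans ((congrArg (a ≫ ·) hr).trans (h.trans ((congrArg (b ≫ ·) hr).symm.trans (Category.assoc _ _ _).symm)))
  have hs : s ≫ g.left = 𝟙 _ := by
    rw [← cancel_epi (pullback.fst Y.hom f), ← Category.assoc, EffectiveEpi.fac, hr, Category.comp_id]
  have : IsIso g.left := ⟨s, by rw [← cancel_mono g.left, Category.assoc, hs]; simp, hs⟩
  have : IsIso ((Over.forget S).map g) := ‹IsIso g.left›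
  exact isIso_of_reflects_iso g (Over.forget S)

theorem nonempty_hom_iff_pullback {S' S : C} {f : S' ⟶ S} (hf : UEE f) (X Y : Over S) [Mono Y.hom] :
    Nonempty (X ⟶ Y) ↔ Nonempty ((Over.pullback f).obj X ⟶ (Over.pullback f).obj Y) := by
  refine ⟨fun ⟨a⟩ => ⟨(Over.pullback f).map a⟩, fun ⟨a⟩ => ?_⟩
  have hw : (a.left ≫ pullback.fst Y.hom f) ≫ Y.hom = pullback.fst X.hom f ≫ X.hom := by
    have h := Over.w a
    simp at h
    rw [Category.assoc, pullback.condition, pullback.condition, ← Category.assoc]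
    exact congrArg (· ≫ f) h
  have : EffectiveEpi (pullback.fst X.hom f) := hf _ _ _ (IsPullback.of_hasPullback _ _)
  refine ⟨Over.homMk (EffectiveEpi.desc (pullback.fst X.hom f) (a.left ≫ pullback.fst Y.hom f) fun g₁ g₂ h => ?_) ?_⟩
  · rw [← cancel_mono Y.hom]
    simp only [Category.assoc] at hw ⊢
    rw [hw, reassoc_of% h]
  · rw [← cancel_epi (pullback.fst X.hom f), ← Category.assoc, EffectiveEpi.fac, hw]

/-- If a map is coequalized by the kernel pair of a universal effective epi, it is a mono. -/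
theorem mono_of_kernelPair {S' S T : C} {f : S' ⟶ S} (hf : UEE f) (g : S ⟶ T)
    (h : ∀ {Z : C} (a b : Z ⟶ S'), a ≫ f ≫ g = b ≫ f ≫ g → a ≫ f = b ≫ f) : Mono g := by
  refine ⟨fun {Z} a b hab => ?_⟩
  have : Epi (pullback.snd f a) := uee_epi hf _ _ _ (IsPullback.of_hasPullback _ _).flip
  have : Epi (pullback.snd f (pullback.snd f a ≫ b)) := uee_epi hf _ _ _ (IsPullback.of_hasPullback _ _).flip
  rw [← cancel_epi (pullback.snd f a), ← cancel_epi (pullback.snd f (pullback.snd f a ≫ b))]
  rw [← pullback.condition, ← pullback.condition (f := f) (g := pullback.snd f a ≫ b), ← Category.assoc]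
  apply h
  simp only [Category.assoc, pullback.condition_assoc, hab]

theorem mono_of_isIso_mapDesc {S' S T : C} {f : S' ⟶ S} (hf : UEE f) (g : S ⟶ T)
    [IsIso (pullback.mapDesc f f g)] : Mono g := by
  refine mono_of_kernelPair hf g fun a b hab => ?_
  let m := pullback.lift a b hab ≫ inv (pullback.mapDesc f f g)
  have hm : m ≫ pullback.mapDesc f f g = pullback.lift a b hab := by simp [m]
  have ha : m ≫ pullback.fst f f = a := by
    have := congrArg (· ≫ pullback.fst (f ≫ g) (f ≫ g)) hm
    rw [Category.assoc, pullback.lift_fst, pullback.lift_fst] at this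
    simpa using this
  have hb : m ≫ pullback.snd f f = b := by
    have := congrArg (· ≫ pullback.snd (f ≫ g) (f ≫ g)) hm
    rw [Category.assoc, pullback.lift_snd, pullback.lift_snd] at this
    simpa using this
  calc a ≫ f = (m ≫ pullback.fst f f) ≫ f := by rw [ha]
    _ = (m ≫ pullback.snd f f) ≫ f := (Category.assoc _ _ _).trans ((congrArg (m ≫ ·) pullback.condition).trans (Category.assoc _ _ _).symm)
    _ = _ := by rw [hb]

theorem mono_iff_isKernelPair {R X Z : C} {p₁ p₂ : R ⟶ X}
    (e : UniversallyEffectiveEquivalenceRelation p₁ p₂) (f : X ⟶ Z) (g : e.B ⟶ Z) (hg : e.π ≫ g = f) :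
    Mono g ↔ IsKernelPair f p₁ p₂ := by
  subst hg
  refine ⟨fun _ => e.isKernelPair.comp_of_mono, fun hk => ?_⟩
  refine mono_of_kernelPair e.universally_effectiveEpi_π g fun a b hab => ?_
  have h1 := IsPullback.lift_fst hk a b hab
  have h2 := IsPullback.lift_snd hk a b hab
  calc a ≫ e.π = (IsPullback.lift hk a b hab ≫ p₁) ≫ e.π := by rw [h1]
    _ = (IsPullback.lift hk a b hab ≫ p₂) ≫ e.π := by rw [Category.assoc, Category.assoc, e.isKernelPair.w]
    _ = _ := by rw [h2]

variable [HasBinaryProducts C]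

theorem uee_prod_map {X Y X' Y' : C} {u : X ⟶ Y} {u' : X' ⟶ Y'} (hu : UEE u) (hu' : UEE u') :
    UEE (prod.map u u') := by
  have h1 : IsPullback (prod.fst : X ⨯ X' ⟶ X) (prod.map u (𝟙 X')) u prod.fst := by
    refine IsPullback.of_isLimit' ⟨by simp⟩ (PullbackCone.IsLimit.mk _
      (fun s => prod.lift s.fst (s.snd ≫ prod.snd)) (fun s => prod.lift_fst _ _) (fun s => ?_) fun s m h1 h2 => ?_)
    · apply prod.hom_ext
      · rw [Category.assoc, prod.map_fst, prod.lift_fst_assoc, s.condition]
      · rw [Category.assoc, prod.map_snd, Category.comp_id, prod.lift_snd]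
    · apply prod.hom_ext
      · exact h1.trans (prod.lift_fst _ _).symm
      · rw [prod.lift_snd, ← h2, Category.assoc, prod.map_snd, Category.comp_id]
  have h2 : IsPullback (prod.snd : Y ⨯ X' ⟶ X') (prod.map (𝟙 Y) u') u' prod.snd := by
    refine IsPullback.of_isLimit' ⟨by simp⟩ (PullbackCone.IsLimit.mk _
      (fun s => prod.lift (s.snd ≫ prod.fst) s.fst) (fun s => prod.lift_snd _ _) (fun s => ?_) fun s m h1 h2 => ?_)
    · apply prod.hom_ext
      · rw [Category.assoc, prod.map_fst, Category.comp_id, prod.lift_fst]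
      · rw [Category.assoc, prod.map_snd, prod.lift_snd_assoc, s.condition]
    · apply prod.hom_ext
      · rw [prod.lift_fst, ← h2, Category.assoc, prod.map_fst, Category.comp_id]
      · exact h1.trans (prod.lift_snd _ _).symm
  have : prod.map u u' = prod.map u (𝟙 X') ≫ prod.map (𝟙 Y) u' := by simp [prod.map_map]
  rw [this]
  exact uee_comp (MorphismProperty.of_isPullback h2 hu') (MorphismProperty.of_isPullback h1 hu)

omit [HasPullbacks C] in
theorem isKernelPair_prod_map {R X Y R' X' Y' : C} {p₁ p₂ : R ⟶ X} {p₁' p₂' : R' ⟶ X'}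
    {π : X ⟶ Y} {π' : X' ⟶ Y'} (h : IsKernelPair π p₁ p₂) (h' : IsKernelPair π' p₁' p₂') :
    IsKernelPair (prod.map π π') (prod.map p₁ p₁') (prod.map p₂ p₂') := by
  refine IsPullback.of_isLimit' ⟨by simp [prod.map_map, h.w, h'.w]⟩ (PullbackCone.IsLimit.mk _
    (fun s => prod.lift (IsPullback.lift h (s.fst ≫ prod.fst) (s.snd ≫ prod.fst) (by
      simpa using congrArg (· ≫ prod.fst) s.condition))
      (IsPullback.lift h' (s.fst ≫ prod.snd) (s.snd ≫ prod.snd) (by
      simpa using congrArg (· ≫ prod.snd) s.condition))) (fun s => ?_) (fun s => ?_) fun s m h1 h2 => ?_)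
  · apply prod.hom_ext
    · refine (Category.assoc _ _ _).trans ?_
      simp only [prod.map_fst, prod.lift_fst_assoc, IsPullback.lift_fst]
    · refine (Category.assoc _ _ _).trans ?_
      simp only [prod.map_snd, prod.lift_snd_assoc, IsPullback.lift_fst]
  · apply prod.hom_ext
    · refine (Category.assoc _ _ _).trans ?_
      simp only [prod.map_fst, prod.lift_fst_assoc, IsPullback.lift_snd]
    · refine (Category.assoc _ _ _).trans ?_
      simp only [prod.map_snd, prod.lift_snd_assoc, IsPullback.lift_snd]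
  · apply prod.hom_ext
    · rw [prod.lift_fst]
      apply IsPullback.hom_ext h
      · rw [IsPullback.lift_fst, Category.assoc, ← h1, Category.assoc, prod.map_fst]
      · rw [IsPullback.lift_snd, Category.assoc, ← h2, Category.assoc, prod.map_fst]
    · rw [prod.lift_snd]
      apply IsPullback.hom_ext h'
      · rw [IsPullback.lift_fst, Category.assoc, ← h1, Category.assoc, prod.map_snd]
      · rw [IsPullback.lift_snd, Category.assoc, ← h2, Category.assoc, prod.map_snd]

end Groth.Agent.Desc19
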